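import Groth.Agent.H19Chev.CoradSplit

/-!
Maps from a bialgebra to a group algebra over a ring send coconnected elements to constants.
-/

set_option autoImplicit false
set_option linter.style.haveILetI false
set_option synthInstance.maxHeartbeats 100000

universe u

open TensorProduct HopfRep

namespace Groth.Agent.H21RCentre

open Groth.Agent.H20Comod Groth.Agent.H19Chev.CoradSplit

noncomputable section

variable {k : Type u} [Field k] {A : Type u} [CommRing A] [HopfAlgebra k A]
variable {R : Type u} [CommRing R] [Algebra k R]

/-- A tensor all of whose left slices vanish is zero. -/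
theorem eq_zero_of_sliceL {M : Type u} [AddCommGroup M] [Module k M] {V : Type u} [AddCommGroup V] [Module k V]
    (x : V ⊗[k] M) (h : ∀ f : V →ₗ[k] k, TensorProduct.lid k M (f.rTensor M x) = 0) : x = 0 := by
  classical
  let ℬ := Module.Free.chooseBasis k V
  refine (TensorProduct.equivFinsuppOfBasisLeft ℬ).injective (Finsupp.ext fun i => ?_)
  rw [map_zero, Finsupp.zero_apply, ← h (ℬ.coord i)]
  clear h
  induction x using TensorProduct.induction_on with
  | zero => simp
  | tmul v m => simp
  | add y z hy hz => simp [hy, hz]

/-- An idempotent form vanishing at the unit kills the coconnected elements. -/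
theorem apply_coFil_eq_zero (ψ : A →ₗ[k] R) (h1 : ψ 1 = 0)
    (hidem : ∀ a, LinearMap.mul' k R (TensorProduct.map ψ ψ (CoalgebraStruct.comul (R := k) a)) = ψ a) :
    ∀ {n : ℕ} {b : A}, b ∈ coFil k A n → ψ b = 0 := by
  intro n
  induction n with
  | zero =>
    intro b hb
    rw [coFil_zero] at hb
    obtain ⟨c, rfl⟩ := Submodule.mem_span_singleton.1 hb
    rw [map_smul, h1, smul_zero]
  | succ n ih =>
    intro b hb
    let P : A →ₗ[k] A := LinearMap.id - (CoalgebraStruct.counit (R := k) (A := A)).smulRight (1 : A)
    let x : A ⊗[k] R := ψ.lTensor A (CoalgebraStruct.comul (R := k) b)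
    have hx : P.rTensor R x = 0 := eq_zero_of_sliceL _ fun f => by
      have hf : f (P 1) = 0 := by simp [P]
      have hs : sliceL (f ∘ₗ P) (CoalgebraStruct.comul (R := k) b) ∈ coFil k A n := mem_coFil.2 fun p hp => by
        rw [← conv_apply_sliceL]
        exact mem_coFil.1 hb _ ⟨f ∘ₗ P, hf, p, hp, rfl⟩
      refine Eq.trans ?_ (ih hs)
      simp only [x]
      generalize CoalgebraStruct.comul (R := k) b = z
      induction z using TensorProduct.induction_on with
      | zero => simp
      | tmul a c => simp
      | add y z hy hz => simp only [map_add, hy, hz]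
    have hψ : ψ ∘ₗ P = ψ := LinearMap.ext fun a => by simp [P, h1]
    calc ψ b = LinearMap.mul' k R (ψ.rTensor R x) := by
          rw [← hidem b]
          simp only [x]
          generalize CoalgebraStruct.comul (R := k) b = z
          induction z using TensorProduct.induction_on with
          | zero => simp
          | tmul a c => simp
          | add y z hy hz => simp only [map_add, hy, hz]
      _ = LinearMap.mul' k R (ψ.rTensor R (P.rTensor R x)) := by
          conv_lhs => rw [← hψ, LinearMap.rTensor_comp_apply]
      _ = 0 := by rw [hx, map_zero, map_zero]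

variable {N : Type} [AddCommGroup N]

/-- A map to a group algebra compatible with the comultiplications sends coconnected elements to constants. -/
theorem apply_uni (g : A →ₐ[k] MonoidAlgebra R (Multiplicative N))
    (hcomul : ∀ a, Algebra.TensorProduct.lift
        (((MonoidAlgebra.mapDomainAlgHom R R (MonoidHom.inl (Multiplicative N) (Multiplicative N))).restrictScalars k).comp g)
        (((MonoidAlgebra.mapDomainAlgHom R R (MonoidHom.inr (Multiplicative N) (Multiplicative N))).restrictScalars k).comp g)
        (fun _ _ => Commute.all _ _) (CoalgebraStruct.comul (R := k) a) =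
      MonoidAlgebra.mapDomainAlgHom R R ((MonoidHom.id (Multiplicative N)).prod (MonoidHom.id _)) (g a))
    (hcounit : ∀ a, MonoidAlgebra.lift R R (Multiplicative N) 1 (g a) =
      algebraMap k R (CoalgebraStruct.counit (R := k) a))
    {b : A} (hb : b ∈ uni k A) : g b = algebraMap k _ (CoalgebraStruct.counit (R := k) b) := by
  classical
  obtain ⟨n, hn⟩ := hb
  have hcoef : ∀ m : Multiplicative N, m ≠ 1 → (g b).coeff m = 0 := by
    intro m hm
    let ψ : A →ₗ[k] R :=
      { toFun := fun a => (g a).coeff m
        map_add' := fun x y => by simp
        map_smul' := fun c x => by simp [map_smul] }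
    refine apply_coFil_eq_zero ψ ?_ (fun a => ?_) hn
    · show (g 1).coeff m = 0
      rw [map_one, MonoidAlgebra.one_def, MonoidAlgebra.coeff_single, Finsupp.single_eq_of_ne hm]
    · have h := congrArg (fun p => p.coeff (m, m)) (hcomul a)
      have hr : (MonoidAlgebra.mapDomainAlgHom R R ((MonoidHom.id (Multiplicative N)).prod (MonoidHom.id _))
          (g a)).coeff (m, m) = (g a).coeff m :=
        Finsupp.mapDomain_apply (fun x y hxy => (Prod.ext_iff.1 hxy).1) _ _
      refine Eq.trans ?_ (h.trans hr)
      generalize CoalgebraStruct.comul (R := k) a = z
      induction z using TensorProduct.induction_on with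
      | zero => simp
      | add y z hy hz => simp only [map_add, hy, hz, MonoidAlgebra.coeff_add, Finsupp.add_apply]
      | tmul a c =>
        simp only [TensorProduct.map_tmul, LinearMap.mul'_apply, Algebra.TensorProduct.lift_tmul, AlgHom.comp_apply]
        show (g a).coeff m * (g c).coeff m = _
        generalize g a = xa
        generalize g c = xc
        induction xa using MonoidAlgebra.induction_linear with
        | zero => simp
        | add y z hy hz => simp only [map_add, add_mul, MonoidAlgebra.coeff_add, Finsupp.add_apply, hy, hz]
        | single u r =>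
          induction xc using MonoidAlgebra.induction_linear with
          | zero => simp
          | add y z hy hz => simp only [map_add, mul_add, MonoidAlgebra.coeff_add, Finsupp.add_apply, hy, hz]
          | single v s =>
            simp [MonoidAlgebra.single_mul_single, Finsupp.single_apply, Prod.ext_iff, ite_and]
            split_ifs <;> simp_all
  have hsingle : g b = MonoidAlgebra.single 1 ((g b).coeff 1) := by
    refine MonoidAlgebra.ext (Finsupp.ext fun m => ?_)
    rcases eq_or_ne m 1 with rfl | hm
    · simp
    · rw [hcoef m hm, MonoidAlgebra.coeff_single, Finsupp.single_eq_of_ne hm]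
  have h := hcounit b
  rw [hsingle, MonoidAlgebra.lift_single] at h
  rw [hsingle, IsScalarTower.algebraMap_apply k R (MonoidAlgebra R (Multiplicative N)), ← h]
  simp

end

end Groth.Agent.H21RCentre
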