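import Groth.Agent.H21RCentre.Kill
import Groth.Agent.H19Chev.LargestMult
import Groth.Agent.H21Fix.EssFree
import Groth.Agent.H21Fix.ConjAction
import Groth.Agent.H21Cent.SubObj
import Groth.Agent.H21Diag.Conj
import Groth.Agent.H21Diag.BaseChange
import Groth.Agent.H13AlgSp.MonoIso
import Groth.Agent.S8199

/-!
The reductive centre of an affine group over a field.
-/

set_option autoImplicit false
set_option linter.style.haveILetI false
set_option backward.isDefEq.respectTransparency false
set_option maxHeartbeats 1000000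
set_option synthInstance.maxHeartbeats 400000

universe u

open CategoryTheory CategoryTheory.Limits MonoidalCategory CartesianMonoidalCategory MonObj AlgebraicGeometry
open TensorProduct WithConv

noncomputable section

namespace Groth.Agent.H21RCentre

open Groth.Agent Groth.Agent.H21Hom Groth.Agent.H19Chev.CoradSplit Groth.Agent.H19Chev.LargestMult

variable {k : Type u} [Field k]

/-- The centre of an affine group over a field. -/
theorem exists_centre (G : Over (Spec (CommRingCat.of k))) [GrpObj G] [IsAffine G.left] :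
    ∃ (C : Over (Spec (CommRingCat.of k))) (_ : GrpObj C) (c : C ⟶ G), Red.IsCentre c ∧ IsClosedImmersion c.left := by
  obtain ⟨a, ha, -⟩ := H21Fix.exists_conj_action (𝟙 G) (𝟙 G) fun X q h =>
    ⟨q * h * q⁻¹, by simp only [Category.comp_id]⟩
  have hact : ∀ {X : Over (Spec (CommRingCat.of k))} (h y : X ⟶ G), lift h y ≫ a.act = h * y * h⁻¹ := fun h y => by
    simpa only [Category.comp_id] using ha _ h y
  let φ := Spec.preimage (G.left.isoSpec.inv ≫ G.hom)
  letI : Algebra k Γ(G.left, ⊤) := φ.hom.toAlgebra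
  haveI : Flat G.hom := inferInstance
  haveI : IsSeparated G.hom := inferInstance
  obtain ⟨C, c, hc, hiff⟩ := S8199.result k G G Γ(G.left, ⊤) G.left.isoSpec
    (by
      change G.left.isoSpec.hom ≫ Spec.map φ = G.hom
      rw [Spec.map_preimage, Iso.hom_inv_id_assoc]) a
    ⟨k, inferInstance, inferInstance, inferInstance, inferInstance⟩
  haveI := hc
  haveI : Mono c := Over.mono_of_mono_left _
  have hcen : ∀ {X : Over (Spec (CommRingCat.of k))} (y : X ⟶ G), (∃ w : X ⟶ C, w ≫ c = y) ↔
      ∀ (X' : Over (Spec (CommRingCat.of k))) (x : X' ⟶ X) (h : X' ⟶ G), (x ≫ y) * h = h * (x ≫ y) := fun y => by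
    rw [hiff]
    refine forall₃_congr fun X' x h => ?_
    rw [hact, mul_inv_eq_iff_eq_mul]
    exact eq_comm
  have hC := fun (X : Over (Spec (CommRingCat.of k))) (w : X ⟶ C) => (hcen (w ≫ c)).1 ⟨w, rfl⟩
  obtain ⟨gC, hcm⟩ := H21Cent.exists_grpObj_of_mono c
    ((hcen 1).2 fun X' x h => by rw [MonObj.comp_one, _root_.one_mul, _root_.mul_one])
    ((hcen _).2 fun X' x h => by
      rw [MonObj.comp_mul, ← Category.assoc x, ← Category.assoc x]
      exact Commute.mul_left (hC _ (fst C C) X' x h) (hC _ (snd C C) X' x h))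
    ((hcen _).2 fun X' x h => by
      rw [GrpObj.comp_inv]
      have h0 := hC C (𝟙 C) X' x h
      rw [Category.id_comp] at h0
      exact Commute.inv_left h0)
  refine ⟨C, gC, c, ⟨hcm, inferInstance, fun X g => (hcen g).trans (forall₃_congr fun X' x h => ?_)⟩, hc⟩
  rw [Category.comp_id]

/-- Global functions agree when they agree on a jointly surjective family of flat morphisms. -/
theorem appTop_ext_of_flat {X : Scheme.{u}} {J : Type*} {W : J → Scheme.{u}} (π : ∀ i, W i ⟶ X) [∀ i, Flat (π i)]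
    (hsurj : ∀ x, ∃ i w, π i w = x) (a b : Γ(X, ⊤)) (h : ∀ i, (π i).appTop.hom a = (π i).appTop.hom b) : a = b := by
  refine TopCat.Presheaf.section_ext X.sheaf ⊤ _ _ fun x hx => ?_
  obtain ⟨i, w, rfl⟩ := hsurj x
  have hflat := Flat.stalkMap (π i) w
  algebraize [((π i).stalkMap w).hom]
  haveI : IsLocalHom (algebraMap (X.presheaf.stalk (π i w)) ((W i).presheaf.stalk w)) :=
    inferInstanceAs (IsLocalHom ((π i).stalkMap w).hom)
  haveI : Module.FaithfullyFlat (X.presheaf.stalk (π i w)) ((W i).presheaf.stalk w) :=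
    Module.FaithfullyFlat.of_flat_of_isLocalHom
  apply FaithfulSMul.algebraMap_injective (X.presheaf.stalk (π i w)) ((W i).presheaf.stalk w)
  change (π i).stalkMap w (X.presheaf.germ ⊤ (π i w) hx a) = (π i).stalkMap w (X.presheaf.germ ⊤ (π i w) hx b)
  rw [Scheme.Hom.germ_stalkMap_apply (π i) ⊤ w hx a, Scheme.Hom.germ_stalkMap_apply (π i) ⊤ w hx b]
  exact congrArg _ (h i)

/-- Homomorphisms from groups of multiplicative type over any base kill the generators of the ideal of the largest
subgroup of multiplicative type. -/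
theorem appTop_uni {A : Type u} [CommRing A] [HopfAlgebra k A] {C : Over (Spec (CommRingCat.of k))} [GrpObj C]
    (eC : C ⟶ specGrp k A) [IsMonHom eC] {S' : Scheme.{u}} (f : S' ⟶ Spec (CommRingCat.of k)) (H : Over S')
    [GrpObj H] (hH : SGA3x.IsMultTypeFT H) (w : H ⟶ Red.bc f C) [IsMonHom w] {b : A} (hb : b ∈ uni k A) :
    (((H21Diag.bcEquiv f C H).symm w).left ≫ eC.left).appTop.hom
        ((Scheme.ΓSpecIso (CommRingCat.of A)).inv.hom b) =
      (((H21Diag.bcEquiv f C H).symm w).left ≫ eC.left).appTop.hom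
        ((Scheme.ΓSpecIso (CommRingCat.of A)).inv.hom (algebraMap k A (CoalgebraStruct.counit (R := k) b))) := by
  obtain ⟨S'', g, hgf, hgs, -, hloc⟩ := hH
  haveI := hgf; haveI := hgs
  let h : H.left ⟶ Spec (CommRingCat.of A) := ((H21Diag.bcEquiv f C H).symm w).left ≫ eC.left
  -- the charts
  have hchart : ∀ s : S'', ∃ (R : Type u) (_ : CommRing R) (v : Spec (CommRingCat.of R) ⟶ S'') (_ : IsOpenImmersion v),
      s ∈ Set.range v ∧ ∃ (M : Type) (_ : AddCommGroup M),
        Nonempty (Grp.mk (Red.bc (v ≫ g) H) ≅ Grp.mk (Red.diag R M)) := by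
    intro s
    obtain ⟨U, hsU, M, _, _, ⟨e⟩⟩ := hloc s
    obtain ⟨V, hV, hsV, hVU⟩ := exists_isAffineOpen_mem_and_subset (U := U) (x := s) hsU
    let v := hV.fromSpec
    haveI : IsOpenImmersion v := hV.isOpenImmersion_fromSpec
    have hr : Set.range v = (V : Set S'') := hV.range_fromSpec
    let v' : Spec Γ(S'', V) ⟶ (U : Scheme.{u}) := IsOpenImmersion.lift U.ι v (by
      rw [hr, Scheme.Opens.range_ι]; exact hVU)
    refine ⟨Γ(S'', V), inferInstance, v, inferInstance, hr.symm ▸ hsV, M, inferInstance, ⟨?_⟩⟩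
    exact H21Diag.bcCongrIso (show v ≫ g = v' ≫ U.ι ≫ g by rw [IsOpenImmersion.lift_fac_assoc]) H ≪≫
      H21Diag.bcCompIso v' (U.ι ≫ g) H ≪≫ H21Diag.bcMapIso v' e ≪≫ H21Diag.bcDSIso v' M ≪≫
      (Grp.mkIso' (asIso (H21Diag.diagToDS Γ(S'', V) M))).symm
  choose R iR v iv hv M iM e using hchart
  let W : S'' → Scheme.{u} := fun s => (Red.bc (v s ≫ g) H).left
  let π : ∀ s, W s ⟶ H.left := fun s => pullback.fst H.hom (v s ≫ g)
  haveI : ∀ s, Flat (π s) := fun s => by
    haveI := iv s
    exact MorphismProperty.pullback_fst _ _ inferInstance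
  refine appTop_ext_of_flat π (fun y => ?_) _ _ ?_
  · obtain ⟨s'', hs''⟩ := g.surjective (H.hom y)
    obtain ⟨r, hr⟩ := hv s''
    obtain ⟨z, hz, -⟩ := Scheme.Pullback.exists_preimage_pullback (f := H.hom) (g := v s'' ≫ g) y r (by
      rw [Scheme.Hom.comp_apply, hr, hs''])
    exact ⟨s'', z, hz⟩
  suffices key : ∀ s, (π s ≫ h).appTop.hom ((Scheme.ΓSpecIso (CommRingCat.of A)).inv.hom b) =
      (π s ≫ h).appTop.hom ((Scheme.ΓSpecIso (CommRingCat.of A)).inv.hom
        (algebraMap k A (CoalgebraStruct.counit (R := k) b))) by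
    intro s
    have h1 := key s
    rwa [Scheme.Hom.comp_appTop] at h1
  intro s
  letI := iR s
  letI := iM s
  obtain ⟨es⟩ := e s
  let u := v s ≫ g
  letI : Algebra k (R s) := (Spec.preimage (u ≫ f)).hom.toAlgebra
  let D := Red.diag (R s) (M s)
  haveI : IsMonHom es.inv.hom.hom := inferInstanceAs (IsMonHom es.inv.hom.hom)
  let jP : ∀ (P : Type u) [CommRing P] [Algebra (R s) P] [Algebra k P] [IsScalarTower k (R s) P],
      (Spec (CommRingCat.of P)).asOver (Spec (CommRingCat.of k)) ⟶
        (Over.map f).obj ((Over.map u).obj ((Spec (CommRingCat.of P)).asOver (Spec (CommRingCat.of (R s))))) :=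
    fun P _ _ _ _ => Over.homMk (𝟙 _) (by
      change 𝟙 _ ≫ (Spec.map (CommRingCat.ofHom (algebraMap (R s) P)) ≫ u) ≫ f = Spec.map (CommRingCat.ofHom (algebraMap k P))
      rw [Category.id_comp, Category.assoc, ← Spec.map_preimage (u ≫ f), ← Spec.map_comp]
      congr 1
      ext x
      exact (IsScalarTower.algebraMap_apply k (R s) P x).symm)
  -- the induced map on points
  let Φ : ∀ (P : Type u) [CommRing P] [Algebra (R s) P] [Algebra k P] [IsScalarTower k (R s) P],
      ((Spec (CommRingCat.of P)).asOver (Spec (CommRingCat.of (R s))) ⟶ D) →*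
        ((Spec (CommRingCat.of P)).asOver (Spec (CommRingCat.of k)) ⟶ specGrp k A) :=
    fun P _ _ _ _ => MonoidHom.mk' (fun t => jP P ≫ (H21Diag.bcEquiv f C _).symm
        ((H21Diag.bcEquiv u H _).symm (t ≫ es.inv.hom.hom) ≫ w) ≫ eC) fun a b => by
      rw [MonObj.mul_comp, H21Diag.bcEquiv_symm_mul, MonObj.mul_comp, H21Diag.bcEquiv_symm_mul, MonObj.mul_comp,
        MonObj.comp_mul]
  let B := MonoidAlgebra (R s) (Multiplicative (M s))
  letI : Algebra k B := inferInstance
  let gB : A →ₐ[k] B := ((Spec.mapMulEquiv (R := k) (S := A) (T := B)).symm (Φ B (𝟙 D))).ofConv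
  have hgB : (Φ B (𝟙 D)).left = Spec.map (CommRingCat.ofHom gB.toRingHom) := by
    conv_lhs => rw [← (Spec.mapMulEquiv (R := k) (S := A) (T := B)).apply_symm_apply (Φ B (𝟙 D))]
    rfl
  have hΦ : ∀ (P : Type u) [CommRing P] [Algebra (R s) P] [Algebra k P] [IsScalarTower k (R s) P]
      (χ : B →ₐ[R s] P), (Spec.mapMulEquiv (R := k) (S := A) (T := P))
          (toConv ((χ.restrictScalars k).comp gB)) =
        Φ P (Spec.mapMulEquiv (R := R s) (S := B) (T := P) (toConv χ)) := fun P _ _ _ _ χ => by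
    ext : 1
    change Spec.map (CommRingCat.ofHom ((χ.toRingHom).comp gB.toRingHom)) = _
    rw [CommRingCat.ofHom_comp, Spec.map_comp, ← hgB]
    simp only [Φ, MonoidHom.mk'_apply, Over.comp_left, H21Diag.bcEquiv, jP, Category.assoc]
    simp [Spec.mapMulEquiv, Adjunction.homEquiv]
    exact congrArg _ (Category.id_comp _)
  have hcomul : ∀ a, Algebra.TensorProduct.lift
        (((MonoidAlgebra.mapDomainAlgHom (R s) (R s) (MonoidHom.inl (Multiplicative (M s)) (Multiplicative (M s)))).restrictScalars k).comp gB)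
        (((MonoidAlgebra.mapDomainAlgHom (R s) (R s) (MonoidHom.inr (Multiplicative (M s)) (Multiplicative (M s)))).restrictScalars k).comp gB)
        (fun _ _ => Commute.all _ _) (CoalgebraStruct.comul (R := k) a) =
      MonoidAlgebra.mapDomainAlgHom (R s) (R s) ((MonoidHom.id (Multiplicative (M s))).prod (MonoidHom.id _)) (gB a) := by
    intro a
    let P := MonoidAlgebra (R s) (Multiplicative (M s) × Multiplicative (M s))
    let χ₁ : B →ₐ[R s] P := MonoidAlgebra.mapDomainAlgHom (R s) (R s) (MonoidHom.inl _ _)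
    let χ₂ : B →ₐ[R s] P := MonoidAlgebra.mapDomainAlgHom (R s) (R s) (MonoidHom.inr _ _)
    let χ₃ : B →ₐ[R s] P := MonoidAlgebra.mapDomainAlgHom (R s) (R s) ((MonoidHom.id _).prod (MonoidHom.id _))
    have h12 : toConv χ₁ * toConv χ₂ = toConv χ₃ := by
      apply WithConv.ofConv_injective
      refine MonoidAlgebra.algHom_ext (fun n => ?_) (Subsingleton.elim _ _)
      show (toConv χ₁ * toConv χ₂) (MonoidAlgebra.single n 1) = χ₃ (MonoidAlgebra.single n 1)
      rw [AlgHom.convMul_apply, MonoidAlgebra.comul_single]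
      simp [χ₁, χ₂, χ₃, B, P, MonoidAlgebra.single_mul_single]
    have e12 : toConv ((χ₁.restrictScalars k).comp gB) * toConv ((χ₂.restrictScalars k).comp gB) =
        toConv ((χ₃.restrictScalars k).comp gB) := by
      apply (Spec.mapMulEquiv (R := k) (S := A) (T := P)).injective
      rw [map_mul, hΦ, hΦ, hΦ, ← map_mul, ← map_mul, h12]
    have := congrArg (fun z : WithConv (A →ₐ[k] P) => z a) e12
    rw [AlgHom.convMul_apply] at this
    exact this
  have hcounit : ∀ a, MonoidAlgebra.lift (R s) (R s) (Multiplicative (M s)) 1 (gB a) =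
      algebraMap k (R s) (CoalgebraStruct.counit (R := k) a) := by
    intro a
    let χ : B →ₐ[R s] R s := MonoidAlgebra.lift (R s) (R s) (Multiplicative (M s)) 1
    have h1 : toConv χ = 1 := by
      apply WithConv.ofConv_injective
      refine MonoidAlgebra.algHom_ext (fun n => ?_) (Subsingleton.elim _ _)
      show χ (MonoidAlgebra.single n 1) = (1 : WithConv (B →ₐ[R s] R s)) (MonoidAlgebra.single n 1)
      simp [χ, B, AlgHom.convOne_apply, MonoidAlgebra.counit_single]
    have e1 : toConv ((χ.restrictScalars k).comp gB) = 1 := by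
      apply (Spec.mapMulEquiv (R := k) (S := A) (T := R s)).injective
      rw [hΦ, h1, map_one, map_one, map_one]
    exact congrArg (fun z : WithConv (A →ₐ[k] R s) => z a) e1
  have hg : gB b = gB (algebraMap k A (CoalgebraStruct.counit (R := k) b)) := by
    rw [apply_uni gB hcomul hcounit hb, AlgHom.commutes]
  let i : D.left ⟶ W s := es.inv.hom.hom.left
  haveI : IsIso es.inv.hom.hom := ⟨es.hom.hom.hom, congrArg (fun k => k.hom.hom) es.inv_hom_id,
    congrArg (fun k => k.hom.hom) es.hom_inv_id⟩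
  haveI : IsIso i := inferInstanceAs (IsIso ((Over.forget _).map es.inv.hom.hom))
  have hih : i ≫ π s ≫ h = Spec.map (CommRingCat.ofHom gB.toRingHom) := by
    rw [← hgB]
    simp only [Φ, MonoidHom.mk'_apply, Over.comp_left, H21Diag.bcEquiv, jP, i, π, h, u, Category.assoc]
    simp [Adjunction.homEquiv]
    exact (Category.id_comp _).symm
  refine ((ConcreteCategory.isIso_iff_bijective i.appTop).mp inferInstance).1 ?_
  have hA : ∀ x : A, i.appTop.hom ((π s ≫ h).appTop.hom ((Scheme.ΓSpecIso (CommRingCat.of A)).inv.hom x)) =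
      (Scheme.ΓSpecIso (CommRingCat.of B)).inv.hom (gB x) := fun x => by
    rw [← CommRingCat.comp_apply, ← Scheme.Hom.comp_appTop, hih, ← CommRingCat.comp_apply,
      ← Scheme.ΓSpecIso_inv_naturality]
    rfl
  exact (hA b).trans ((congrArg _ hg).trans (hA _).symm)

/-- **The reductive centre** of an affine group over a field. -/
theorem exists_reductiveCentre (G : Over (Spec (CommRingCat.of k))) [GrpObj G] [IsAffine G.left]
    [LocallyOfFiniteType G.hom] :
    ∃ (Z : Over (Spec (CommRingCat.of k))) (_ : GrpObj Z) (z : Z ⟶ G), IsMonHom z ∧ Mono z ∧ IsClosedImmersion z.left ∧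
      SGA3x.IsMultTypeFT Z ∧
      (∀ (X : Over (Spec (CommRingCat.of k))) (x : X ⟶ Z) (g : X ⟶ G), (x ≫ z) * g = g * (x ≫ z)) ∧
      ∀ (S' : Scheme.{u}) (f : S' ⟶ Spec (CommRingCat.of k)) (H : Over S') [GrpObj H] (v : H ⟶ Red.bc f G) [IsMonHom v],
        SGA3x.IsMultTypeFT H →
        (∀ (X : Over S') (x : X ⟶ H) (g : X ⟶ Red.bc f G), (x ≫ v) * g = g * (x ≫ v)) →
        ∃ w : H ⟶ Red.bc f Z, w ≫ (Over.pullback f).map z = v := by
  obtain ⟨C, gC, c, hc, hcc⟩ := exists_centre G
  haveI := hc.1; haveI := hcc; haveI := hc.2.1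
  have hcen : ∀ {X : Over (Spec (CommRingCat.of k))} (w : X ⟶ C) (g : X ⟶ G), (w ≫ c) * g = g * (w ≫ c) :=
    fun {X} w g => by
      have h := (hc.2.2 X (w ≫ c)).1 ⟨w, rfl⟩ X (𝟙 X) g
      simpa only [Category.id_comp, Category.comp_id] using h
  haveI : IsCommMonObj C := ⟨by
    rw [← cancel_mono c, MonObj.mul_eq_mul, MonObj.comp_mul, MonObj.mul_comp, MonObj.mul_comp,
      braiding_hom_fst, braiding_hom_snd]
    exact hcen _ _⟩
  haveI : IsAffine C.left := isAffine_of_isAffineHom c.left
  haveI : LocallyOfFiniteType C.hom := by rw [← Over.w c]; infer_instance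
  obtain ⟨A, _, _, eC, hA, hft, he, hei⟩ := exists_comm_model C
  haveI := hA; haveI := hft; haveI := he; haveI := hei
  obtain ⟨hJ, hJm⟩ := exists_multIdeal (k := k) (A := A)
  haveI := hJ
  let q := Bialgebra.Quotient.mkBialgHom (R := k) (multIdeal k A)
  haveI := isClosedImmersion_specHom q Ideal.Quotient.mk_surjective
  haveI : IsIso eC.inv.left := inferInstanceAs (IsIso ((Over.forget _).map eC.inv))
  let z : specGrp k (A ⧸ multIdeal k A) ⟶ G := specHom q ≫ eC.inv ≫ c
  haveI : IsClosedImmersion z.left := by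
    change IsClosedImmersion ((specHom q).left ≫ eC.inv.left ≫ c.left)
    infer_instance
  refine ⟨_, inferInstance, z, inferInstanceAs (IsMonHom (specHom q ≫ eC.inv ≫ c)), Over.mono_of_mono_left _,
    inferInstance, isMultTypeFT_specGrp inferInstance (isMultType_of_isMultTypeConst hJm), fun X x g => ?_,
    fun S' f H _ v _ hH hv => ?_⟩
  · simp only [z, ← Category.assoc]
    exact hcen _ _
  -- the homomorphism factors through the centre
  obtain ⟨w₀, hw₀⟩ := (hc.2.2 _ ((H21Diag.bcEquiv f G H).symm v)).2 fun X' x h => by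
    let X'' : Over S' := Over.mk (x.left ≫ H.hom)
    let i : X' ≅ (Over.map f).obj X'' := Over.isoMk (Iso.refl _) (by
      change 𝟙 _ ≫ (x.left ≫ H.hom) ≫ f = X'.hom
      rw [Category.id_comp, Category.assoc]
      exact Over.w x)
    let x'' : X'' ⟶ H := Over.homMk x.left rfl
    have hx : x = i.hom ≫ (Over.map f).map x'' := Over.OverMorphism.ext (Category.id_comp _).symm
    have h1 := congrArg (fun m => i.hom ≫ (H21Diag.bcEquiv f G X'').symm m)
      (hv X'' x'' (H21Diag.bcEquiv f G X'' (i.inv ≫ h)))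
    simp only [H21Diag.bcEquiv_symm_mul, Equiv.symm_apply_apply, MonObj.comp_mul, Iso.hom_inv_id_assoc] at h1
    rw [Category.comp_id, hx, Category.assoc]
    convert h1 using 3 <;> exact ((Over.mapPullbackAdj f).homEquiv_naturality_left_symm x'' v).symm
  let w : H ⟶ Red.bc f C := H21Diag.bcEquiv f C H w₀
  have hw : w ≫ (Over.pullback f).map c = v := by
    rw [← (H21Diag.bcEquiv f G H).apply_symm_apply v, ← hw₀]
    exact ((Over.mapPullbackAdj f).homEquiv_naturality_right w₀ c).symm
  haveI : IsMonHom w := H21Diag.isMonHom_of_mul w fun {T} a b => by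
    haveI : IsMonHom ((Over.pullback f).map c : Red.bc f C ⟶ Red.bc f G) :=
      H21Diag.isMonHom_of_mul _ fun x y => MonObj.mul_comp _ _ _
    rw [← cancel_mono ((Over.pullback f).map c), MonObj.mul_comp (a ≫ w) (b ≫ w) ((Over.pullback f).map c)]
    simp only [Category.assoc, hw]
    exact MonObj.mul_comp a b v
  have hw₀' : (H21Diag.bcEquiv f C H).symm w = w₀ := Equiv.symm_apply_apply _ _
  -- and there through the largest subgroup of multiplicative type
  let hl : H.left ⟶ Spec (CommRingCat.of A) := w₀.left ≫ eC.hom.left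
  let gam : A →+* Γ(H.left, ⊤) := hl.appTop.hom.comp (Scheme.ΓSpecIso (CommRingCat.of A)).inv.hom
  have hgam : ∀ x ∈ multIdeal k A, gam x = 0 := fun x hx => by
    refine RingHom.mem_ker.1 ((Ideal.span_le (I := RingHom.ker gam)).2 ?_ hx)
    rintro _ ⟨b, hb, rfl⟩
    have h := appTop_uni eC.hom f H hH w hb
    rw [hw₀'] at h
    rw [SetLike.mem_coe, RingHom.mem_ker, map_sub, sub_eq_zero]
    exact h
  let ul : H.left ⟶ Spec (CommRingCat.of (A ⧸ multIdeal k A)) :=
    H.left.toSpecΓ ≫ Spec.map (CommRingCat.ofHom (Ideal.Quotient.lift _ gam hgam))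
  have hul : ul ≫ (specHom q).left = hl := by
    have h1 : hl = H.left.toSpecΓ ≫ Spec.map (CommRingCat.ofHom gam) := by
      rw [show CommRingCat.ofHom gam = (Scheme.ΓSpecIso (CommRingCat.of A)).inv ≫ hl.appTop from rfl, Spec.map_comp,
        ← Scheme.toSpecΓ_naturality_assoc, AlgebraicGeometry.toSpecΓ_SpecMap_ΓSpecIso_inv, Category.comp_id]
    rw [h1, specHom_left]
    simp only [ul, Category.assoc, ← Spec.map_comp]
    rfl
  let u : (Over.map f).obj H ⟶ specGrp k (A ⧸ multIdeal k A) := Over.homMk ul (by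
    rw [← Over.w (specHom q), ← Category.assoc, hul]
    exact Over.w (w₀ ≫ eC.hom))
  refine ⟨H21Diag.bcEquiv f _ H u, ?_⟩
  rw [← (H21Diag.bcEquiv f G H).apply_symm_apply v, ← hw₀]
  refine ((Over.mapPullbackAdj f).homEquiv_naturality_right u z).symm.trans ?_
  have hu : u ≫ specHom q = w₀ ≫ eC.hom := Over.OverMorphism.ext hul
  simp only [z]
  rw [← Category.assoc u, hu, Category.assoc, Iso.hom_inv_id_assoc]
  rfl

end Groth.Agent.H21RCentre
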